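import Cfsg.Agent.H9.Ch.B
import Cfsg.Agent.H2.NumT

/-! Arithmetic for chains in symmetric groups: the simply primitive case. -/

set_option autoImplicit false

namespace Cfsg.Agent.H9.Ch

open Cfsg.Agent.H3.Ch

theorem numB : NumB := by
  intro n t x y z h8 h1 ht hM hx hz hU hB hZ
  by_cases hn : n ≤ 540
  · exact small h8 hn h1 ht hM hx hU hB
  by_cases h3 : 3 ≤ t
  · exact big3 n t x z (by omega) h3 ht hM hz fun μ h4 h => hZ μ h4 (Or.inr h)
  · exact H2.NumT.t2 n t x y z (by omega) h1 (by omega) hx hz hU fun μ h4 h => hZ μ h4 (Or.inl h)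

end Cfsg.Agent.H9.Ch
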